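import Groth.Agent.FlatProper5.Noeth
import Groth.Agent.FlatPt5.Descent
import Groth.Agent.ConsPropLib.CoreProper
import Groth.Agent.S9350

/-!
# Flatness descends along a proper morphism with injective structure map, affine base
-/

set_option autoImplicit false
set_option maxHeartbeats 1000000
set_option linter.style.haveILetI false
set_option backward.isDefEq.respectTransparency.types false
set_option backward.isDefEq.respectTransparency false

universe u

open CategoryTheory CategoryTheory.Limits AlgebraicGeometry TopologicalSpace Opposite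
open Groth.Agent.ConsPropLib

namespace Groth.Agent.FlatProper5

/-- Every point of a quasi-compact fibre is flat at some stage, so one stage works for all. -/
theorem exists_flatAt_stage_compact {I : Type u} [SmallCategory I] [IsCofiltered I] {D : I ⥤ Scheme.{u}} {c : Cone D}
    [∀ {i j : I} (f : i ⟶ j), IsAffineHom (D.map f)] (hc : IsLimit c) {i : I} {X₀ Xp : Scheme.{u}}
    {a₀ : X₀ ⟶ D.obj i} [LocallyOfFinitePresentation a₀] {q : Xp ⟶ X₀} {f : Xp ⟶ c.pt}
    (hsq : IsPullback q f a₀ (c.π.app i)) {F : X₀.Modules} (hF : Coh.IsQCoh F) (hFp : CohB1.IsFP F)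
    {K : Set Xp} (hK : IsCompact K)
    (h : ∀ x ∈ K, FlatMod.IsFlatOverAt f ((Scheme.Modules.pullback q).obj F) x) :
    ∃ j : Over i, ∀ x ∈ K, FlatMod.IsFlatOverAt (pullback.snd a₀ (D.map j.hom))
      ((Scheme.Modules.pullback (pullback.fst a₀ (D.map j.hom))).obj F) (MorLib.BC.proj D a₀ hsq j x) := by
  let W : Over i → Set Xp := fun j => {x | FlatMod.IsFlatOverAt (pullback.snd a₀ (D.map j.hom))
    ((Scheme.Modules.pullback (pullback.fst a₀ (D.map j.hom))).obj F) (MorLib.BC.proj D a₀ hsq j x)}
  haveI : Coh.IsQCoh F := hF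
  have hopen : ∀ j, IsOpen (W j) := fun j => by
    haveI := QCoh.isQCoh_pullback (pullback.fst a₀ (D.map j.hom)) hF
    exact (S4863.result (pullback.snd a₀ (D.map j.hom))
      ((Scheme.Modules.pullback (pullback.fst a₀ (D.map j.hom))).obj F)
      (LimModLib.isFP_pullback _ hF hFp)).preimage (MorLib.BC.proj D a₀ hsq j).continuous
  haveI : Nonempty (Over i) := ⟨Over.mk (𝟙 i)⟩
  refine hK.elim_directed_cover W hopen (fun x hx => Set.mem_iUnion.2
    (FlatPt5.exists_flatAt_stage hsq hc hF hFp x (h x hx))) fun a b => ?_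
  exact ⟨IsCofiltered.min a b, fun x hx => FlatPt5.flatAt_later hsq hF hFp (IsCofiltered.minToLeft a b) x hx,
    fun x hx => FlatPt5.flatAt_later hsq hF hFp (IsCofiltered.minToRight a b) x hx⟩

/-- A subring of `A` has the injective map to the sections of `A`. -/
theorem injective_appTop_cone (A : CommRingCat.{u}) (k : (Finset A)ᵒᵖ) :
    Function.Injective ((NoethApprox.cone A).π.app k).appTop := by
  let ι : (NoethApprox.rings A).obj k.unop ⟶ A := (NoethApprox.cocone A).ι.app k.unop
  show Function.Injective (Spec.map ι).appTop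
  rw [show (Spec.map ι).appTop = (Scheme.ΓSpecIso _).hom ≫ ι ≫ (Scheme.ΓSpecIso A).inv by
    rw [Scheme.ΓSpecIso_inv_naturality, Iso.hom_inv_id_assoc]]
  simp only [CommRingCat.hom_comp, RingHom.coe_comp]
  exact (ConcreteCategory.bijective_of_isIso (Scheme.ΓSpecIso A).inv).1.comp
    (Subtype.val_injective.comp (ConcreteCategory.bijective_of_isIso (Scheme.ΓSpecIso _).hom).1)

/-- A model of a proper morphism is proper at a later stage. -/
theorem exists_proper_stage (A : CommRingCat.{u}) {Y' : Scheme.{u}} {g : Y' ⟶ Spec A} [IsProper g]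
    {i : (Finset A)ᵒᵖ} {Yi : Scheme.{u}} {gi : Yi ⟶ (NoethApprox.diagram A).obj i} {p : Y' ⟶ Yi}
    (hm : IsModel (c := NoethApprox.cone A) g i gi p) :
    ∃ (j : (Finset A)ᵒᵖ) (φ : j ⟶ i), IsProper (pullback.snd gi ((NoethApprox.diagram A).map φ)) := by
  haveI := hm.qc; haveI := hm.qs
  haveI : CompactSpace Yi := hm.compactSpace
  haveI : QuasiSeparatedSpace Yi := hm.quasiSeparatedSpace
  exact core_isProper _ (NoethApprox.diagram A) (NoethApprox.cone A) (NoethApprox.isLimit A)
    (fun _ _ _ => inferInstance) i inferInstance gi inferInstance inferInstance hm.lfp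
    (MorLib.Desc.of_two @IsProper hm.sq (IsPullback.of_hasPullback _ _) inferInstance)

open NoethApprox in
/-- Flatness descends along a proper morphism with injective structure map: affine base. -/
theorem flatAt_affine {A : CommRingCat.{u}} {X Y' : Scheme.{u}} (f : X ⟶ Spec A)
    [LocallyOfFinitePresentation f] [QuasiCompact f] [QuasiSeparated f] (F : X.Modules) (hq : Coh.IsQCoh F)
    (hF : CohB1.IsFP F) (x : X) (g : Y' ⟶ Spec A) [IsProper g] [LocallyOfFinitePresentation g]
    (hinj : Function.Injective g.appTop)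
    (hflat : ∀ x' : ↥(pullback f g), pullback.fst f g x' = x →
      FlatMod.IsFlatOverAt (pullback.snd f g) ((Scheme.Modules.pullback (pullback.fst f g)).obj F) x') :
    FlatMod.IsFlatOverAt f F x := by
  classical
  haveI : ∀ {i j : (Finset A)ᵒᵖ} (r : i ⟶ j), IsAffineHom ((diagram A).map r) := fun r => inferInstance
  obtain ⟨i, Xi, fi, pX, Fi, hm, hiq, hiF, ⟨e⟩⟩ := FlatPt5.exists_subring_model f F hq hF
  obtain ⟨i', Yi, gi, pY, hn⟩ := hasModel (NoethApprox.isLimit A) (c := NoethApprox.cone A) g
  obtain ⟨l, φl, hl⟩ := exists_proper_stage A hn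
  haveI := hl
  let k : (Finset A)ᵒᵖ := IsCofiltered.min i l
  have hkf := hm.pushed (IsCofiltered.minToLeft i l)
  have hkg := (hn.pushed φl).pushed (IsCofiltered.minToRight i l)
  let fk := pullback.snd fi ((diagram A).map (IsCofiltered.minToLeft i l))
  let gk := pullback.snd (pullback.snd gi ((diagram A).map φl)) ((diagram A).map (IsCofiltered.minToRight i l))
  let qX : X ⟶ pullback fi ((diagram A).map (IsCofiltered.minToLeft i l)) := hm.push _
  let qY : Y' ⟶ pullback (pullback.snd gi ((diagram A).map φl)) ((diagram A).map (IsCofiltered.minToRight i l)) :=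
    (hn.pushed φl).push _
  let Fk := (Scheme.Modules.pullback (pullback.fst fi ((diagram A).map (IsCofiltered.minToLeft i l)))).obj Fi
  have hFkq : Coh.IsQCoh Fk := QCoh.isQCoh_pullback _ hiq
  have hFkp : CohB1.IsFP Fk := LimModLib.isFP_pullback _ hiq hiF
  let ek : (Scheme.Modules.pullback qX).obj Fk ≅ F :=
    (Scheme.Modules.pullbackComp _ _).app Fi ≪≫ (Scheme.Modules.pullbackCongr (hm.push_fst _)).app Fi ≪≫ e
  haveI := hkf.lfp; haveI := hkf.qc; haveI := hkf.qs
  haveI := hkg.lfp
  haveI : IsProper gk := MorphismProperty.pullback_snd _ _ inferInstance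
  -- the system of stages of `Y'` and the product at stage `k`
  let D' := MorLib.BC.diag (diagram A) gk
  let T : Over k := Over.mk (𝟙 k)
  let c' := MorLib.BC.cone (diagram A) gk (c := NoethApprox.cone A) hkg.sq
  have hc' : IsLimit c' := MorLib.BC.isLimitCone (diagram A) gk hkg.sq (NoethApprox.isLimit A)
  haveI : ∀ {a b : Over k} (r : a ⟶ b), IsAffineHom (D'.map r) := fun r => MorLib.BC.isAffineHom_map _ gk r
  let gT : D'.obj T ⟶ (diagram A).obj k := pullback.snd gk ((diagram A).map T.hom)
  let pT : Y' ⟶ D'.obj T := MorLib.BC.proj (diagram A) gk (c := NoethApprox.cone A) hkg.sq T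
  have hpT : pT ≫ gT = g ≫ (NoethApprox.cone A).π.app k := MorLib.BC.proj_snd (diagram A) gk hkg.sq T
  let a₀ : pullback fk gT ⟶ D'.obj T := pullback.snd fk gT
  haveI : LocallyOfFinitePresentation a₀ := MorphismProperty.pullback_snd _ _ inferInstance
  let qP : pullback f g ⟶ pullback fk gT := pullback.lift (pullback.fst f g ≫ qX) (pullback.snd f g ≫ pT)
    (by rw [Category.assoc, Category.assoc, hpT, hkf.sq.w, pullback.condition_assoc])
  have hsq : IsPullback qP (pullback.snd f g) a₀ (c'.π.app T) := by
    refine IsPullback.of_right ?_ (pullback.lift_snd _ _ _) (IsPullback.of_hasPullback fk gT).flip.flip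
    rw [pullback.lift_fst]
    show IsPullback _ _ fk (pT ≫ gT)
    rw [hpT]
    exact (IsPullback.of_hasPullback f g).paste_horiz hkf.sq
  let F₀ := (Scheme.Modules.pullback (pullback.fst fk gT)).obj Fk
  have h0q : Coh.IsQCoh F₀ := QCoh.isQCoh_pullback _ hFkq
  have h0p : CohB1.IsFP F₀ := LimModLib.isFP_pullback _ hFkq hFkp
  obtain ⟨j, hj⟩ := exists_flatAt_stage_compact hc' hsq h0q h0p
    ((pullback.fst f g).isCompact_preimage_singleton x) fun z hz =>
      GrFlat5.isFlatOverAt_of_iso _ ((Scheme.Modules.pullback (pullback.fst f g)).mapIso ek.symm ≪≫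
        (Scheme.Modules.pullbackComp _ qX).app Fk ≪≫
        (Scheme.Modules.pullbackCongr (pullback.lift_fst _ _ _).symm).app Fk ≪≫
        ((Scheme.Modules.pullbackComp qP (pullback.fst fk gT)).app Fk).symm) z (hflat z hz)
  -- the stage
  let m : Over k := j.left
  have hTm : j.hom.left ≫ T.hom = m.hom := Over.w j.hom
  have hmf := hkf.pushed m.hom
  let fm := pullback.snd fk ((diagram A).map m.hom)
  let gm : D'.obj m ⟶ (diagram A).obj m.left := pullback.snd gk ((diagram A).map m.hom)
  haveI : LocallyOfFinitePresentation fm := hmf.lfp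
  haveI : IsProper gm := MorphismProperty.pullback_snd _ _ inferInstance
  let Fm := (Scheme.Modules.pullback (pullback.fst fk ((diagram A).map m.hom))).obj Fk
  let xm := hkf.push m.hom x
  let em : (Scheme.Modules.pullback (hkf.push m.hom)).obj Fm ≅ F :=
    (Scheme.Modules.pullbackComp _ _).app Fk ≪≫ (Scheme.Modules.pullbackCongr (hkf.push_fst _)).app Fk ≪≫ ek
  suffices hmain : FlatMod.IsFlatOverAt fm Fm xm from
    GrFlat5.isFlatOverAt_of_iso f em x (FlatPt5.flatAt_of_baseChange hmf.sq
      (QCoh.isQCoh_pullback _ hFkq) (LimModLib.isFP_pullback _ hFkq hFkp) x hmain)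
  -- the product at stage `m`
  let b : pullback fm gm ⟶ pullback fk gT := pullback.lift (pullback.fst fm gm ≫ pullback.fst fk _)
    (pullback.snd fm gm ≫ D'.map j.hom) (by
      rw [Category.assoc, Category.assoc, pullback.condition,
        show D'.map j.hom ≫ gT = gm ≫ (diagram A).map j.hom.left from MorLib.BC.map_snd (diagram A) gk j.hom,
        show j.hom.left = m.hom from by simpa [T] using hTm, ← pullback.condition_assoc])
  have hb : IsPullback b (pullback.snd fm gm) a₀ (D'.map j.hom) := by
    refine IsPullback.of_right ?_ (pullback.lift_snd _ _ _) (IsPullback.of_hasPullback fk gT)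
    rw [pullback.lift_fst,
      show D'.map j.hom ≫ gT = gm ≫ (diagram A).map j.hom.left from MorLib.BC.map_snd (diagram A) gk j.hom,
      show j.hom.left = m.hom from by simpa [T] using hTm]
    exact (IsPullback.of_hasPullback fm gm).paste_horiz (IsPullback.of_hasPullback fk _)
  let E := hb.isoPullback
  have hflm : ∀ z : ↥(pullback fm gm), pullback.fst fm gm z = xm →
      FlatMod.IsFlatOverAt (pullback.snd fm gm) ((Scheme.Modules.pullback (pullback.fst fm gm)).obj Fm) z := by
    intro z hz
    let pm : pullback f g ⟶ pullback fm gm := pullback.lift (pullback.fst f g ≫ hkf.push m.hom)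
      (pullback.snd f g ≫ c'.π.app m) (by
        rw [Category.assoc, Category.assoc, show c'.π.app m ≫ gm = g ≫ (NoethApprox.cone A).π.app m.left from
          MorLib.BC.proj_snd (diagram A) gk hkg.sq m, hkf.push_snd, pullback.condition_assoc])
    have hpm : IsPullback pm (pullback.fst f g) (pullback.fst fm gm) (hkf.push m.hom) := by
      refine IsPullback.of_right ?_ (pullback.lift_fst _ _ _) (IsPullback.of_hasPullback fm gm).flip
      rw [pullback.lift_snd, hkf.push_snd]
      exact (IsPullback.of_hasPullback f g).flip.paste_horiz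
        (MorLib.BC.isPullback_proj (diagram A) gk hkg.sq m)
    obtain ⟨w, hwz, hwx⟩ := Scheme.Pullback.exists_preimage_pullback z x hz
    let w' := hpm.isoPullback.inv w
    have hw1 : pm w' = z := by
      rw [← hwz, ← Scheme.Hom.comp_apply, hpm.isoPullback_inv_fst]
    have hw2 : pullback.fst f g w' = x := by
      rw [← hwx, ← Scheme.Hom.comp_apply, hpm.isoPullback_inv_snd]
    have hEpm : pm ≫ E.hom = MorLib.BC.proj D' a₀ (c := c') hsq j := by
      apply pullback.hom_ext
      · rw [Category.assoc, IsPullback.isoPullback_hom_fst, MorLib.BC.proj_fst]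
        apply pullback.hom_ext
        · simp [b, qP, pm]
          exact congrArg (pullback.fst f g ≫ ·) (hkf.push_fst m.hom)
        · simp [b, qP, pm]
          exact congrArg (pullback.snd f g ≫ ·) (c'.w j.hom)
      · rw [Category.assoc, IsPullback.isoPullback_hom_snd, MorLib.BC.proj_snd]
        simp [pm]
        rfl
    have h1 := hj w' hw2
    rw [← hEpm, Scheme.Hom.comp_apply, hw1] at h1
    have h2 := (S9350.flatOverAt_pullback_iff E.hom (pullback.snd a₀ (D'.map j.hom)) _ z
      (RingHom.Flat.of_bijective (ConcreteCategory.bijective_of_isIso (E.hom.stalkMap z)))).1 h1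
    rw [show E.hom ≫ pullback.snd a₀ (D'.map j.hom) = pullback.snd fm gm from hb.isoPullback_hom_snd] at h2
    exact GrFlat5.isFlatOverAt_of_iso _ ((Scheme.Modules.pullbackComp _ _).app F₀ ≪≫
      (Scheme.Modules.pullbackCongr hb.isoPullback_hom_fst).app F₀ ≪≫
      (Scheme.Modules.pullbackComp b (pullback.fst fk gT)).app Fk ≪≫
      (Scheme.Modules.pullbackCongr (pullback.lift_fst _ _ _)).app Fk ≪≫
      ((Scheme.Modules.pullbackComp _ _).app Fk).symm) z h2
  have hinjm : Function.Injective gm.appTop := by
    have h1 : c'.π.app m ≫ gm = g ≫ (NoethApprox.cone A).π.app m.left :=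
      MorLib.BC.proj_snd (diagram A) gk hkg.sq m
    have h2 : Function.Injective (c'.π.app m ≫ gm).appTop := by
      rw [h1, Scheme.Hom.comp_appTop]
      simp only [CommRingCat.hom_comp, RingHom.coe_comp]
      exact hinj.comp (injective_appTop_cone A m.left)
    rw [Scheme.Hom.comp_appTop] at h2
    simp only [CommRingCat.hom_comp, RingHom.coe_comp] at h2
    exact h2.of_comp
  haveI : IsNoetherianRing ((rings A).obj m.left.unop) := by
    haveI := NoethApprox.isNoetherian_obj A m.left
    exact (AlgebraicGeometry.isNoetherian_Spec).1 this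
  haveI : IsLocallyNoetherian (pullback fk ((diagram A).map m.hom)) :=
    LocallyOfFiniteType.isLocallyNoetherian fm
  exact flatAt_noetherian (R := ((rings A).obj m.left.unop : Type u)) fm Fm
    ((QCoh.isCoh_iff_isFP (M := Fm)).2 (LimModLib.isFP_pullback _ hFkq hFkp)) xm gm hinjm hflm

end Groth.Agent.FlatProper5
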