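import Mathlib

/-!
# Chevalley's lemma for a directed family of ideals
-/

set_option autoImplicit false

universe u

open IsLocalRing

namespace Groth.Agent.FlatProper5

/-- In a complete Noetherian local ring a downward directed family of ideals with zero intersection has
members inside every power of the maximal ideal. -/
theorem exists_le_pow_of_iInf_eq_bot {R : Type u} [CommRing R] [IsNoetherianRing R] [IsLocalRing R]
    [IsAdicComplete (maximalIdeal R) R] {ι : Type u} [Nonempty ι] (J : ι → Ideal R)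
    (hdir : Directed (fun a b => b ≤ a) J) (hJ : ⨅ i, J i = ⊥) (N : ℕ) :
    ∃ i, J i ≤ maximalIdeal R ^ N := by
  classical
  let m := maximalIdeal R
  -- a least member modulo each power
  have hmin : ∀ k : ℕ, ∃ i, ∀ i', J i ⊔ m ^ k ≤ J i' ⊔ m ^ k := fun k => by
    rcases eq_or_ne k 0 with rfl | hk
    · obtain ⟨i⟩ := ‹Nonempty ι›
      exact ⟨i, fun i' => by simp⟩
    haveI : IsArtinianRing (R ⧸ m ^ k) := by
      refine IsLocalRing.quotient_artinian_of_mem_minimalPrimes_of_isLocalRing _ ?_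
      refine ⟨⟨inferInstance, Ideal.pow_le_self hk⟩, fun P hP hPm => ?_⟩
      exact (hP.1.le_of_pow_le hP.2)
    obtain ⟨M, ⟨i, rfl⟩, hM⟩ := (IsArtinian.set_has_minimal (R := R ⧸ m ^ k) (M := R ⧸ m ^ k)
      (Set.range fun i => (J i).map (Ideal.Quotient.mk (m ^ k)))) (Set.range_nonempty _)
    refine ⟨i, fun i' => ?_⟩
    obtain ⟨l, h1, h2⟩ := hdir i i'
    have he : (J l).map (Ideal.Quotient.mk (m ^ k)) = (J i).map (Ideal.Quotient.mk (m ^ k)) := by
      by_contra hne
      exact hM _ ⟨l, rfl⟩ (lt_of_le_of_ne (Ideal.map_mono h1) hne)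
    have hc : ∀ I : Ideal R, (I.map (Ideal.Quotient.mk (m ^ k))).comap (Ideal.Quotient.mk (m ^ k)) = I ⊔ m ^ k :=
      fun I => by
        rw [Ideal.comap_map_of_surjective _ Ideal.Quotient.mk_surjective, ← RingHom.ker_eq_comap_bot, Ideal.mk_ker]
    calc J i ⊔ m ^ k = J l ⊔ m ^ k := by rw [← hc, ← hc, he]
      _ ≤ J i' ⊔ m ^ k := sup_le_sup_right h2 _
  choose i hi using hmin
  refine ⟨i N, fun x hx => ?_⟩
  have hstep : ∀ (k : ℕ) (y : R), y ∈ J (i k) ⊔ m ^ k → ∃ z, z ∈ J (i (k + 1)) ⊔ m ^ (k + 1) ∧ z - y ∈ m ^ k := by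
    intro k y hy
    have h1 : y ∈ J (i (k + 1)) ⊔ m ^ k := hi k (i (k + 1)) hy
    obtain ⟨a, ha, b, hb, rfl⟩ := Submodule.mem_sup.1 h1
    exact ⟨a, Ideal.mem_sup_left ha, by simpa using (m ^ k).neg_mem hb⟩
  choose! nx hnx using hstep
  let t : ℕ → R := fun k => Nat.rec x (fun k z => nx (N + k) z) k
  have ht : ∀ k, t k ∈ J (i (N + k)) ⊔ m ^ (N + k) := fun k => by
    induction k with
    | zero => exact Ideal.mem_sup_left hx
    | succ k ih => exact (hnx (N + k) (t k) ih).1
  have hd : ∀ k d, t (k + d) - t k ∈ m ^ (N + k) := fun k d => by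
    induction d with
    | zero => simp
    | succ d ih =>
      have h2 := Ideal.pow_le_pow_right (show N + k ≤ N + (k + d) by omega)
        (hnx (N + (k + d)) (t (k + d)) (ht _)).2
      have : t (k + (d + 1)) - t k = (nx (N + (k + d)) (t (k + d)) - t (k + d)) + (t (k + d) - t k) := by
        show nx (N + (k + d)) (t (k + d)) - t k = _
        ring
      rw [this]
      exact add_mem h2 ih
  obtain ⟨L, hL⟩ := IsPrecomplete.prec (I := m) (M := R) inferInstance (f := t) (fun {p q} hpq => by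
    rw [SModEq.sub_mem, smul_eq_mul, Ideal.mul_top]
    obtain ⟨d, rfl⟩ := Nat.exists_eq_add_of_le hpq
    have := Ideal.pow_le_pow_right (show p ≤ N + p by omega) (hd p d)
    simpa using (m ^ p).neg_mem this)
  have hL' : ∀ k, L - t k ∈ m ^ (N + k) := fun k => by
    have h1 := hL (N + k)
    rw [SModEq.sub_mem, smul_eq_mul, Ideal.mul_top] at h1
    obtain ⟨d, hd'⟩ := Nat.exists_eq_add_of_le (show k ≤ N + k by omega)
    have h2 := hd k d
    rw [← hd'] at h2
    have : L - t k = -(t (N + k) - L) + (t (N + k) - t k) := by ring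
    rw [this]
    exact add_mem ((m ^ (N + k)).neg_mem h1) h2
  have hL0 : L = 0 := by
    rw [← Ideal.mem_bot, ← hJ]
    refine Submodule.mem_iInf _ |>.2 fun i' => ?_
    by_contra hn
    have hne : J i' ≠ ⊤ := fun h => hn (h ▸ Submodule.mem_top)
    haveI : Nontrivial (R ⧸ J i') := Ideal.Quotient.nontrivial_iff.2 hne
    haveI : IsLocalRing (R ⧸ J i') := IsLocalRing.of_surjective' _ Ideal.Quotient.mk_surjective
    refine hn (Ideal.Quotient.eq_zero_iff_mem.1 ?_)
    have hmm : m.map (Ideal.Quotient.mk (J i')) ≤ maximalIdeal (R ⧸ J i') :=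
      Ideal.map_le_iff_le_comap.2 fun a ha => by
        haveI : IsLocalHom (Ideal.Quotient.mk (J i')) := IsLocalHom.of_surjective _ Ideal.Quotient.mk_surjective
        exact map_nonunit (Ideal.Quotient.mk (J i')) a ha
    rw [← Ideal.mem_bot, ← Ideal.iInf_pow_eq_bot_of_isLocalRing (maximalIdeal (R ⧸ J i'))
      (IsLocalRing.maximalIdeal.isMaximal _).ne_top, Submodule.mem_iInf]
    intro k
    have h1 : L ∈ J i' ⊔ m ^ (N + k) := by
      rw [← sub_add_cancel L (t k)]
      exact add_mem (Ideal.mem_sup_right (hL' k)) (hi (N + k) i' (ht k))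
    obtain ⟨a, ha, b, hb, rfl⟩ := Submodule.mem_sup.1 h1
    rw [map_add, Ideal.Quotient.eq_zero_iff_mem.2 ha, zero_add]
    refine Ideal.pow_le_pow_right (show k ≤ N + k by omega) (Ideal.pow_right_mono hmm _ ?_)
    rw [← Ideal.map_pow]
    exact Ideal.mem_map_of_mem _ hb
  have h0 := hL' 0
  rw [hL0, zero_sub] at h0
  have h1 := (m ^ N).neg_mem h0
  rw [neg_neg] at h1
  exact h1

end Groth.Agent.FlatProper5
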