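import Groth.Agent.FlatProper5.General
import Groth.Agent.S1392
import Groth.Agent.S9350
import Groth.Agent.H23.UnitSec

/-!
# Flatness descends along a proper morphism with injective structure map (EGA IV 11.5.3)
-/

set_option autoImplicit false
set_option maxHeartbeats 1000000
set_option synthInstance.maxHeartbeats 400000
set_option linter.style.haveILetI false
set_option backward.isDefEq.respectTransparency.types false
set_option backward.isDefEq.respectTransparency false

universe u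

open CategoryTheory CategoryTheory.Limits AlgebraicGeometry TopologicalSpace TensorProduct

namespace Groth.Agent.FlatProper5

/-- Injectivity near `y` gives injectivity after base change to the local ring at `y`. -/
theorem injective_appTop_snd_fromSpecStalk {Y Y' : Scheme.{u}} (g : Y' ⟶ Y) [QuasiCompact g] [QuasiSeparated g]
    (y : Y) (hinj : ∀ (V : Y.Opens) (s : Γ(Y, V)), y ∈ V → g.app V s = 0 →
      ∃ W : Y.Opens, y ∈ W ∧ ∃ hWV : W ≤ V, Y.presheaf.map (homOfLE hWV).op s = 0) :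
    Function.Injective (pullback.snd g (Y.fromSpecStalk y)).appTop := by
  obtain ⟨_, ⟨V, hV, rfl⟩, hyV, -⟩ :=
    Y.isBasis_affineOpens.exists_subset_of_mem_open (Set.mem_univ y) isOpen_univ
  let j := Y.fromSpecStalk y
  let A := Y.presheaf.stalk y
  have hjV : (⊤ : (Spec A).Opens) ≤ j ⁻¹ᵁ V := fun t _ => by
    have h1 : j t ∈ Set.range j := ⟨t, rfl⟩
    rw [Scheme.range_fromSpecStalk] at h1
    exact h1.mem_open V.2 hyV
  let P := pullback g j
  let q : P ⟶ Spec A := pullback.snd g j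
  let a : P ⟶ Y' := pullback.fst g j
  haveI : Flat j := GrpSchLib.flat_fromSpecStalk y
  have haV : (⊤ : P.Opens) ≤ a ⁻¹ᵁ (g ⁻¹ᵁ V) := fun z _ => by
    show g (a z) ∈ V
    rw [← Scheme.Hom.comp_apply, pullback.condition, Scheme.Hom.comp_apply]
    exact hjV (Opens.mem_top _)
  have hUP : (⊤ : P.Opens) = a ⁻¹ᵁ (g ⁻¹ᵁ V) ⊓ q ⁻¹ᵁ (⊤ : (Spec A).Opens) :=
    le_antisymm (le_inf haV fun _ _ => trivial) le_top
  have h : IsPushout (g.appLE V (g ⁻¹ᵁ V) le_rfl) (j.appLE V ⊤ hjV) (a.appLE (g ⁻¹ᵁ V) ⊤ haV)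
      (q.appLE ⊤ ⊤ le_top) :=
    (isIso_pushoutSection_iff (IsPullback.of_hasPullback g j) (US := V) (UT := ⊤) (UX := g ⁻¹ᵁ V) (UY := ⊤)
      hjV le_rfl hUP).mp (isIso_pushoutSection_of_isQuasiSeparated_of_flat_right (IsPullback.of_hasPullback g j)
        hjV le_rfl hUP hV (isAffineOpen_top _) (g.isCompact_preimage hV.isCompact)
        (g.isQuasiSeparated_preimage hV.isQuasiSeparated))
  algebraize [(g.appLE V (g ⁻¹ᵁ V) le_rfl).hom, (j.appLE V ⊤ hjV).hom, (a.appLE (g ⁻¹ᵁ V) ⊤ haV).hom,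
    (q.appLE ⊤ ⊤ le_top).hom]
  letI : Algebra Γ(Y, V) Γ(P, ⊤) :=
    ((a.appLE (g ⁻¹ᵁ V) ⊤ haV).hom.comp (g.appLE V (g ⁻¹ᵁ V) le_rfl).hom).toAlgebra
  haveI : IsScalarTower Γ(Y, V) Γ(Y', g ⁻¹ᵁ V) Γ(P, ⊤) := IsScalarTower.of_algebraMap_eq fun _ => rfl
  haveI : IsScalarTower Γ(Y, V) Γ(Spec A, ⊤) Γ(P, ⊤) := IsScalarTower.of_algebraMap_eq fun r =>
    congr($(h.w).hom r)
  haveI hpo : Algebra.IsPushout Γ(Y, V) Γ(Spec A, ⊤) Γ(Y', g ⁻¹ᵁ V) Γ(P, ⊤) :=
    (CommRingCat.isPushout_iff_isPushout.mp h).symm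
  let M := (hV.primeIdealOf ⟨y, hyV⟩).asIdeal.primeCompl
  let eΓ : A ≃+* Γ(Spec A, ⊤) := (Scheme.ΓSpecIso A).symm.commRingCatIsoToRingEquiv
  have hgermA : ∀ r : Γ(Y, V), algebraMap Γ(Y, V) Γ(Spec A, ⊤) r = eΓ (Y.presheaf.germ V y hyV r) := by
    intro r
    have h1 : j.appLE V ⊤ hjV = Y.presheaf.germ V y hyV ≫ (Scheme.ΓSpecIso A).inv := by
      rw [Scheme.Hom.appLE, Scheme.fromSpecStalk_app hyV, Category.assoc, Category.assoc, ← Functor.map_comp]
      erw [show ∀ (φ : (Opposite.op (⊤ : (Spec A).Opens)) ⟶ Opposite.op ⊤), (Spec A).presheaf.map φ = 𝟙 _ from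
        fun φ => by rw [Subsingleton.elim φ (𝟙 _), CategoryTheory.Functor.map_id]]
      rw [Category.comp_id]
    exact congr($(h1).hom r)
  letI : Algebra Γ(Y, V) A := (Y.presheaf.germ V y hyV).hom.toAlgebra
  haveI : IsLocalization M A := hV.isLocalization_stalk ⟨y, hyV⟩
  haveI : IsLocalization M Γ(Spec A, ⊤) :=
    IsLocalization.isLocalization_of_algEquiv M (AlgEquiv.ofRingEquiv (f := eΓ) fun r => (hgermA r).symm)
  let e := Algebra.IsPushout.equiv Γ(Y, V) Γ(Spec A, ⊤) Γ(Y', g ⁻¹ᵁ V) Γ(P, ⊤)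
  haveI : IsLocalizedModule M (TensorProduct.mk Γ(Y, V) Γ(Spec A, ⊤) Γ(Y', g ⁻¹ᵁ V) 1) :=
    (isLocalizedModule_iff_isBaseChange M Γ(Spec A, ⊤) _).2 (TensorProduct.isBaseChange _ _ _)
  refine (injective_iff_map_eq_zero _).2 fun t ht => ?_
  obtain ⟨⟨σ, b⟩, hσ⟩ := IsLocalization.surj M t
  have h1 : (1 : Γ(Spec A, ⊤)) ⊗ₜ[Γ(Y, V)] algebraMap Γ(Y, V) Γ(Y', g ⁻¹ᵁ V) σ =
      (0 : Γ(Spec A, ⊤) ⊗[Γ(Y, V)] Γ(Y', g ⁻¹ᵁ V)) := by
    apply e.injective
    rw [map_zero, Algebra.IsPushout.equiv_tmul, map_one, one_mul, ← IsScalarTower.algebraMap_apply,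
      IsScalarTower.algebraMap_apply Γ(Y, V) Γ(Spec A, ⊤) Γ(P, ⊤), ← hσ, map_mul]
    convert zero_mul _ using 2
    rw [RingHom.algebraMap_toAlgebra, show q.appLE ⊤ ⊤ le_top = q.appTop by
      simp [Scheme.Hom.appTop, Scheme.Hom.app_eq_appLE]]
    exact ht
  obtain ⟨c, hc⟩ := (IsLocalizedModule.eq_zero_iff M (TensorProduct.mk Γ(Y, V) Γ(Spec A, ⊤) Γ(Y', g ⁻¹ᵁ V) 1)).1 h1
  have hc' : g.app V ((c : Γ(Y, V)) * σ) = 0 := by
    rw [Scheme.Hom.app_eq_appLE, map_mul]
    rw [Submonoid.smul_def, Algebra.smul_def] at hc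
    exact hc
  obtain ⟨W, hyW, hWV, hW⟩ := hinj V _ hyV hc'
  have hz : algebraMap Γ(Y, V) A ((c : Γ(Y, V)) * σ) = 0 := by
    show Y.presheaf.germ V y hyV _ = 0
    rw [← Y.presheaf.germ_res_apply (homOfLE hWV) y hyW, hW, map_zero]
  rw [map_mul, (IsLocalization.map_units A c).mul_right_eq_zero] at hz
  have hz' : algebraMap Γ(Y, V) Γ(Spec A, ⊤) σ = 0 := by
    rw [hgermA]
    exact (congrArg eΓ hz).trans (map_zero eΓ)
  rw [hz'] at hσ
  exact (IsLocalization.map_units Γ(Spec A, ⊤) b).mul_left_eq_zero.1 hσ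

/-- Flatness descends along a proper morphism of finite presentation with locally injective structure map. -/
theorem flatAt_of_proper {X Y Y' : Scheme.{u}} (f : X ⟶ Y)
    [LocallyOfFinitePresentation f] (F : X.Modules) (hq : Coh.IsQCoh F) (hF : CohB1.IsFP F) (x : X)
    (g : Y' ⟶ Y) [IsProper g] [LocallyOfFinitePresentation g]
    (hinj : ∀ (V : Y.Opens) (s : Γ(Y, V)), f x ∈ V → g.app V s = 0 →
      ∃ W : Y.Opens, f x ∈ W ∧ ∃ hWV : W ≤ V, Y.presheaf.map (homOfLE hWV).op s = 0)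
    (hflat : ∀ x' : ↥(pullback f g), pullback.fst f g x' = x →
      FlatMod.IsFlatOverAt (pullback.snd f g) ((Scheme.Modules.pullback (pullback.fst f g)).obj F) x') :
    FlatMod.IsFlatOverAt f F x := by
  let j := Y.fromSpecStalk (f x)
  haveI : Flat j := GrpSchLib.flat_fromSpecStalk _
  obtain ⟨xA, hxA, -⟩ := Scheme.Pullback.exists_preimage_pullback (f := f) (g := j) x
    (IsLocalRing.closedPoint _) (Scheme.fromSpecStalk_closedPoint (X := Y) (x := f x)).symm
  let fA := pullback.snd f j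
  let FA := (Scheme.Modules.pullback (pullback.fst f j)).obj F
  rw [← hxA]
  refine S1392.result f fA (pullback.fst f j) j (IsPullback.of_hasPullback f j) F hq xA
    (Flat.stalkMap j _) ?_
  obtain ⟨W, hW, hxW, -⟩ := exists_isAffineOpen_mem_and_subset (x := xA) (U := ⊤) trivial
  haveI : CompactSpace (W : Scheme.{u}) := isCompact_iff_compactSpace.1 hW.isCompact
  haveI : IsAffine (W : Scheme.{u}) := hW
  let gA := pullback.snd g j
  refine (S9350.flatOverAt_pullback_iff W.ι fA FA ⟨xA, hxW⟩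
    (RingHom.Flat.of_bijective (ConcreteCategory.bijective_of_isIso (W.ι.stalkMap _)))).2 ?_
  refine flatAt_affine (W.ι ≫ fA) _ (QCoh.isQCoh_pullback _ (QCoh.isQCoh_pullback _ hq))
    (LimModLib.isFP_pullback _ (QCoh.isQCoh_pullback _ hq) (LimModLib.isFP_pullback _ hq hF)) _ gA
    (injective_appTop_snd_fromSpecStalk g _ hinj) fun z hz => ?_
  let q : pullback (W.ι ≫ fA) gA ⟶ pullback fA gA :=
    pullback.lift (pullback.fst _ _ ≫ W.ι) (pullback.snd _ _) (by rw [Category.assoc, pullback.condition])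
  have hq' : IsPullback q (pullback.fst (W.ι ≫ fA) gA) (pullback.fst fA gA) W.ι :=
    IsPullback.of_right (by rw [pullback.lift_snd]; exact (IsPullback.of_hasPullback (W.ι ≫ fA) gA).flip)
      (pullback.lift_fst _ _ _) (IsPullback.of_hasPullback fA gA).flip
  haveI : IsOpenImmersion q := MorphismProperty.of_isPullback hq'.flip inferInstance
  have hflatA : FlatMod.IsFlatOverAt (pullback.snd fA gA)
      ((Scheme.Modules.pullback (pullback.fst fA gA)).obj FA) (q z) := by
    let r : pullback fA gA ⟶ pullback f g := pullback.lift (pullback.fst fA gA ≫ pullback.fst f j)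
      (pullback.snd fA gA ≫ pullback.fst g j) (by
        rw [Category.assoc, Category.assoc, pullback.condition, pullback.condition_assoc, pullback.condition])
    have hr : IsPullback r (pullback.snd fA gA) (pullback.snd f g) (pullback.fst g j) := by
      refine IsPullback.of_right ?_ (pullback.lift_snd _ _ _) (IsPullback.of_hasPullback f g)
      rw [pullback.lift_fst, pullback.condition]
      exact (IsPullback.of_hasPullback fA gA).paste_horiz (IsPullback.of_hasPullback f j)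
    refine GrFlat5.isFlatOverAt_of_iso _ ((Scheme.Modules.pullbackComp r (pullback.fst f g)).app F ≪≫
      (Scheme.Modules.pullbackCongr (pullback.lift_fst _ _ _)).app F ≪≫
      ((Scheme.Modules.pullbackComp _ _).app F).symm) _
      (MorLib.FlatBC.isFlatOverAt_baseChange _ _ r _ hr _ _ (hflat _ ?_))
    rw [← Scheme.Hom.comp_apply, ← Scheme.Hom.comp_apply, pullback.lift_fst, pullback.lift_fst_assoc,
      Category.assoc, Scheme.Hom.comp_apply, hz]
    exact hxA
  have h2 := (S9350.flatOverAt_pullback_iff q (pullback.snd fA gA) _ z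
    (RingHom.Flat.of_bijective (ConcreteCategory.bijective_of_isIso (q.stalkMap z)))).1 hflatA
  rw [show q ≫ pullback.snd fA gA = pullback.snd (W.ι ≫ fA) gA from pullback.lift_snd _ _ _] at h2
  exact GrFlat5.isFlatOverAt_of_iso _ ((Scheme.Modules.pullbackComp q _).app FA ≪≫
    (Scheme.Modules.pullbackCongr (pullback.lift_fst _ _ _)).app FA ≪≫
    ((Scheme.Modules.pullbackComp _ _).app FA).symm) z h2

/-- Flatness of the structure module is flatness of the morphism. -/
theorem flatAt_structureModule_iff {X Y : Scheme.{u}} (f : X ⟶ Y) (x : X) :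
    FlatMod.IsFlatOverAt f (Coh.structureModule X) x ↔ (f.stalkMap x).hom.Flat := by
  letI := FlatMod.moduleStalkOver f (Coh.structureModule X) x
  letI : Algebra (Y.presheaf.stalk (f x)) (X.presheaf.stalk x) := (f.stalkMap x).hom.toAlgebra
  let φ : X.presheaf.stalk x →ₗ[Y.presheaf.stalk (f x)] (Coh.structureModule X).presheaf.stalk x :=
    { toFun := fun a => a • H23.UnitSec.one x
      map_add' := fun a b => add_smul a b _
      map_smul' := fun r a => mul_smul _ _ _ }
  have hbij : Function.Bijective φ := by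
    refine ⟨(injective_iff_map_eq_zero φ).2 fun a ha => H23.UnitSec.eq_zero_of_smul_one a ha, fun m => ?_⟩
    obtain ⟨a, ha⟩ := Submodule.mem_span_singleton.1 ((H23.UnitSec.span_one x).ge (Submodule.mem_top (x := m)))
    exact ⟨a, ha⟩
  exact (Module.Flat.equiv_iff (LinearEquiv.ofBijective φ hbij)).symm

end Groth.Agent.FlatProper5
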