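import Groth.Agent.FlatProper5.Topology
import Groth.Agent.GrFlat5.FlatAtFamily
import Groth.Agent.GrFlat5.FlatAtIso
import Groth.Prelude.Def_EGA43

/-!
# Flatness descends along a proper morphism with injective structure map, Noetherian base
-/

set_option autoImplicit false
set_option backward.isDefEq.respectTransparency.types false
set_option backward.isDefEq.respectTransparency false

universe u

open CategoryTheory CategoryTheory.Limits AlgebraicGeometry TopologicalSpace IsLocalRing
open EGA43

namespace Groth.Agent.FlatProper5

/-- Flatness at a point descends along a proper morphism to an affine Noetherian scheme with injective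
structure map. -/
theorem flatAt_noetherian {R : Type u} [CommRing R] [IsNoetherianRing R] {X Y' : Scheme.{u}}
    (f : X ⟶ Spec (CommRingCat.of R)) [LocallyOfFiniteType f] (F : X.Modules) (hF : Coh.IsCoh F) (x : X)
    (g : Y' ⟶ Spec (CommRingCat.of R)) [IsProper g] (hinj : Function.Injective g.appTop)
    (hflat : ∀ x' : ↥(pullback f g), pullback.fst f g x' = x →
      FlatMod.IsFlatOverAt (pullback.snd f g) ((Scheme.Modules.pullback (pullback.fst f g)).obj F) x') :
    FlatMod.IsFlatOverAt f F x := by
  refine GrFlat5.flatAt_of_local_family f F hF x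
    (fun i : {y' : Y' // g y' = f x} => (Y'.presheaf.stalk i.1 : Type u))
    (fun i => (stalkHom g i.1 i.2).hom) (fun N => exists_finset_comap_le g hinj (f x) N) ?_
  intro i x' hx' ht
  refine GrFlat5.isFlatOverAt_baseChange_comp f g _ (Y'.fromSpecStalk i.1) ?_ F x _ x' hx' ht
    fun z hz _ => hflat z hz
  show _ = Spec.map (stalkHom g i.1 i.2) ≫ (Spec (CommRingCat.of R)).fromSpecStalk (f x)
  rw [stalkHom, Spec.map_comp, Category.assoc, Scheme.SpecMap_stalkSpecializes_fromSpecStalk,
    Scheme.SpecMap_stalkMap_fromSpecStalk]

end Groth.Agent.FlatProper5
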