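import Groth.Agent.FlatProper5.Cheval
import Groth.Prelude.Def_EGA4b
import Groth.Agent.FlatLoc6.Cpl
import Mathlib

/-!
# A proper morphism with injective structure map induces the adic topology through local rings of the fibre
-/

set_option autoImplicit false
set_option synthInstance.maxHeartbeats 400000
set_option maxHeartbeats 1000000
set_option backward.isDefEq.respectTransparency.types false
set_option backward.isDefEq.respectTransparency false

universe u

open CategoryTheory CategoryTheory.Limits AlgebraicGeometry TopologicalSpace IsLocalRing TensorProduct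

namespace Groth.Agent.FlatProper5

/-- The map of local rings at a point over `p`. -/
noncomputable def stalkHom {Y' Y : Scheme.{u}} (g : Y' ⟶ Y) {p : Y} (y' : Y') (hy : g y' = p) :
    Y.presheaf.stalk p ⟶ Y'.presheaf.stalk y' :=
  Y.presheaf.stalkSpecializes (specializes_of_eq hy) ≫ g.stalkMap y'

instance isLocalHom_stalkHom {Y' Y : Scheme.{u}} (g : Y' ⟶ Y) {p : Y} (y' : Y') (hy : g y' = p) :
    IsLocalHom (stalkHom g y' hy).hom := by
  subst hy
  rw [stalkHom, TopCat.Presheaf.stalkSpecializes_refl, Category.id_comp]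
  infer_instance

/-- Sections are detected on the closed fibre of a universally closed morphism to a local scheme. -/
theorem eq_zero_of_germ_closed {P : Scheme.{u}} {S : Type u} [CommRing S] [IsLocalRing S]
    (q : P ⟶ Spec (CommRingCat.of S)) [UniversallyClosed q] (σ : Γ(P, ⊤))
    (h : ∀ z : P, q z = closedPoint S → P.presheaf.germ ⊤ z trivial σ = 0) : σ = 0 := by
  refine TopCat.Presheaf.section_ext P.sheaf ⊤ σ 0 fun w _ => ?_
  obtain ⟨z, hz, hzq⟩ : ∃ z ∈ closure {w}, q z = closedPoint S := by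
    have h1 : IsClosed (q '' closure {w}) := q.isClosedMap _ isClosed_closure
    exact (specializes_closedPoint (q w)).mem_closed h1 ⟨w, subset_closure rfl, rfl⟩
  have hw : w ⤳ z := specializes_iff_mem_closure.2 hz
  rw [map_zero]
  show P.presheaf.germ ⊤ w trivial σ = 0
  rw [← P.presheaf.germ_stalkSpecializes (U := ⊤) (hy := trivial) hw, CommRingCat.comp_apply, h z hzq, map_zero]

/-- Flat base change keeps the structure map to global sections injective. -/
theorem injective_appTop_of_flat {P Y' Y T : Scheme.{u}} {a : P ⟶ Y'} {q : P ⟶ T} {g : Y' ⟶ Y} {s : T ⟶ Y}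
    (H : IsPullback a q g s) [IsAffine Y] [IsAffine T] [Flat s] [CompactSpace Y'] [QuasiSeparatedSpace Y']
    (hinj : Function.Injective g.appTop) : Function.Injective q.appTop := by
  have h0 := (isIso_pushoutSection_iff H (US := ⊤) (UT := ⊤) (UX := ⊤) (UY := ⊤) le_top le_top (by simp)).mp
    (isIso_pushoutSection_of_isQuasiSeparated_of_flat_right H le_top le_top (by simp)
      (isAffineOpen_top Y) (isAffineOpen_top T) isCompact_univ isQuasiSeparated_univ)
  have h : IsPushout g.appTop s.appTop a.appTop q.appTop := by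
    simpa [Scheme.Hom.app_eq_appLE, Scheme.Hom.appTop] using h0
  algebraize [g.appTop.hom, s.appTop.hom, a.appTop.hom, q.appTop.hom]
  letI : Algebra Γ(Y, ⊤) Γ(P, ⊤) := (a.appTop.hom.comp g.appTop.hom).toAlgebra
  haveI : IsScalarTower Γ(Y, ⊤) Γ(Y', ⊤) Γ(P, ⊤) := IsScalarTower.of_algebraMap_eq fun _ => rfl
  haveI : IsScalarTower Γ(Y, ⊤) Γ(T, ⊤) Γ(P, ⊤) := IsScalarTower.of_algebraMap_eq fun r =>
    congr($(h.w).hom r)
  haveI hpo : Algebra.IsPushout Γ(Y, ⊤) Γ(T, ⊤) Γ(Y', ⊤) Γ(P, ⊤) :=
    (CommRingCat.isPushout_iff_isPushout.mp h).symm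
  haveI : Module.Flat Γ(Y, ⊤) Γ(T, ⊤) := by
    have h1 := s.flat_appLE (isAffineOpen_top Y) (isAffineOpen_top T) le_top
    have h2 : s.appLE ⊤ ⊤ le_top = s.appTop := by simp [Scheme.Hom.appTop, Scheme.Hom.app_eq_appLE]
    rw [h2] at h1
    exact h1
  let e := Algebra.IsPushout.equiv Γ(Y, ⊤) Γ(T, ⊤) Γ(Y', ⊤) Γ(P, ⊤)
  intro x y hxy
  have h1 : Function.Injective (Algebra.TensorProduct.includeLeft : Γ(T, ⊤) →ₐ[Γ(Y, ⊤)] Γ(T, ⊤) ⊗[Γ(Y, ⊤)] Γ(Y', ⊤)) :=
    Algebra.TensorProduct.includeLeft_injective hinj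
  exact h1 (e.injective (by
    show e (x ⊗ₜ 1) = e (y ⊗ₜ 1)
    rw [Algebra.IsPushout.equiv_tmul, Algebra.IsPushout.equiv_tmul, map_one, mul_one, mul_one]
    exact hxy))

/-- **The adic topology is induced by the local rings of the fibre of a proper morphism.** -/
theorem exists_finset_comap_le {R : Type u} [CommRing R] [IsNoetherianRing R] {Y' : Scheme.{u}}
    (g : Y' ⟶ Spec (CommRingCat.of R)) [IsProper g]
    (hinj : Function.Injective g.appTop) (p : ↥(Spec (CommRingCat.of R))) (N : ℕ) :
    ∃ s : Finset ({y' : Y' // g y' = p} × ℕ),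
      ⨅ t ∈ s, (maximalIdeal (Y'.presheaf.stalk t.1.1) ^ t.2).comap (stalkHom g t.1.1 t.1.2).hom ≤
        maximalIdeal ((Spec (CommRingCat.of R)).presheaf.stalk p) ^ N := by
  classical
  let S := Spec (CommRingCat.of R)
  let O := S.presheaf.stalk p
  let toO : CommRingCat.of R ⟶ O := (Scheme.ΓSpecIso (CommRingCat.of R)).inv ≫ S.presheaf.germ ⊤ p trivial
  letI : Algebra R O := toO.hom.toAlgebra
  haveI : IsLocalization.AtPrime O p.asIdeal := StructureSheaf.IsLocalization.to_stalk R p
  haveI : IsNoetherianRing O := IsLocalization.isNoetherianRing p.asIdeal.primeCompl O inferInstance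
  let Oh := AdicCompletion (maximalIdeal O) O
  haveI : IsNoetherianRing Oh := FlatLoc6.isNoetherianRing_cpl O
  haveI : Module.FaithfullyFlat O Oh := FlatLoc6.faithfullyFlat_cpl O
  have hmax : maximalIdeal Oh = (maximalIdeal O).map (algebraMap O Oh) := AdicCompletion.maximalIdeal_eq_map
  haveI : Module.Flat R O := IsLocalization.flat O p.asIdeal.primeCompl
  letI : Algebra R Oh := ((algebraMap O Oh).comp (algebraMap R O)).toAlgebra
  haveI : IsScalarTower R O Oh := IsScalarTower.of_algebraMap_eq fun _ => rfl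
  haveI : Module.Flat R Oh := Module.Flat.trans R O Oh
  let s : Spec (CommRingCat.of Oh) ⟶ S := Spec.map (CommRingCat.ofHom (algebraMap R Oh))
  haveI : Flat s := (Flat.SpecMap_iff).2 (RingHom.flat_algebraMap_iff.2 inferInstance)
  let P := pullback g s
  let q : P ⟶ Spec (CommRingCat.of Oh) := pullback.snd g s
  haveI : IsNoetherian P := by
    haveI : IsNoetherian (Spec (CommRingCat.of Oh)) := inferInstance
    haveI : IsLocallyNoetherian P := LocallyOfFiniteType.isLocallyNoetherian q
    haveI : CompactSpace P := QuasiCompact.compactSpace_of_compactSpace q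
    exact { }
  haveI : CompactSpace Y' := QuasiCompact.compactSpace_of_compactSpace g
  haveI : QuasiSeparatedSpace Y' := quasiSeparatedSpace_of_quasiSeparated g
  have hq : Function.Injective q.appTop := injective_appTop_of_flat (IsPullback.of_hasPullback g s) hinj
  let ψ : ∀ z : P, Oh →+* P.presheaf.stalk z := fun z =>
    ((Scheme.ΓSpecIso (CommRingCat.of Oh)).inv ≫ q.appTop ≫ P.presheaf.germ ⊤ z trivial).hom
  have hinjΓ : Function.Injective (Scheme.ΓSpecIso (CommRingCat.of Oh)).inv :=
    (ConcreteCategory.bijective_of_isIso (Scheme.ΓSpecIso (CommRingCat.of Oh)).inv).1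
  let J : Finset {z : P // q z = closedPoint Oh} × ℕ → Ideal Oh := fun i =>
    ⨅ z ∈ i.1, (maximalIdeal (P.presheaf.stalk z.1) ^ i.2).comap (ψ z.1)
  have hdir : Directed (fun a b => b ≤ a) J := fun a b => by
    refine ⟨(a.1 ∪ b.1, max a.2 b.2), le_iInf₂ fun z hz => ?_, le_iInf₂ fun z hz => ?_⟩
    · exact iInf₂_le_of_le z (Finset.mem_union_left _ hz)
        (Ideal.comap_mono (Ideal.pow_le_pow_right (le_max_left _ _)))
    · exact iInf₂_le_of_le z (Finset.mem_union_right _ hz)
        (Ideal.comap_mono (Ideal.pow_le_pow_right (le_max_right _ _)))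
  have hbot : ⨅ i, J i = ⊥ := by
    rw [eq_bot_iff]
    intro σ hσ
    refine Ideal.mem_bot.2 (hinjΓ (hq ?_))
    rw [map_zero, map_zero]
    refine eq_zero_of_germ_closed q _ fun z hz => ?_
    show ψ z σ = 0
    rw [← Ideal.mem_bot, ← Ideal.iInf_pow_eq_bot_of_isLocalRing (maximalIdeal (P.presheaf.stalk z))
      (maximalIdeal.isMaximal _).ne_top, Submodule.mem_iInf]
    intro n
    have h1 := (Submodule.mem_iInf _).1 hσ ({⟨z, hz⟩}, n)
    simp only [J, Finset.mem_singleton, iInf_iInf_eq_left] at h1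
    exact h1
  haveI : Nonempty (Finset {z : P // q z = closedPoint Oh} × ℕ) := ⟨(∅, 0)⟩
  obtain ⟨⟨F, n⟩, hF⟩ := exists_le_pow_of_iInf_eq_bot J hdir hbot N
  have hs : s (closedPoint Oh) = p := by
    refine PrimeSpectrum.ext ?_
    show (maximalIdeal Oh).comap (algebraMap R Oh) = p.asIdeal
    rw [IsScalarTower.algebraMap_eq R O Oh, ← Ideal.comap_comap, hmax,
      Ideal.comap_map_eq_self_of_faithfullyFlat (B := Oh) (maximalIdeal O)]
    exact IsLocalization.AtPrime.comap_maximalIdeal (R := R) (S := O) p.asIdeal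
  have hy : ∀ z : {z : P // q z = closedPoint Oh}, g (pullback.fst g s z.1) = p := fun z => by
    rw [← Scheme.Hom.comp_apply, pullback.condition, Scheme.Hom.comp_apply, z.2, hs]
  have hcomp : ∀ (z : {z : P // q z = closedPoint Oh}) (a : O),
      ψ z.1 (algebraMap O Oh a) = (pullback.fst g s).stalkMap z.1 (stalkHom g _ (hy z) a) := by
    intro z
    refine RingHom.congr_fun (IsLocalization.ringHom_ext (j := ψ z.1 |>.comp (algebraMap O Oh))
      (k := ((pullback.fst g s).stalkMap z.1).hom.comp (stalkHom g _ (hy z)).hom) p.asIdeal.primeCompl ?_)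
    ext r
    show P.presheaf.germ ⊤ z.1 trivial (q.appTop ((Scheme.ΓSpecIso (CommRingCat.of Oh)).inv (algebraMap R Oh r))) =
      (pullback.fst g s).stalkMap z.1 (g.stalkMap _ (S.presheaf.stalkSpecializes (specializes_of_eq (hy z))
        (S.presheaf.germ ⊤ p trivial ((Scheme.ΓSpecIso (CommRingCat.of R)).inv r))))
    rw [← CommRingCat.comp_apply (S.presheaf.germ ⊤ p trivial), S.presheaf.germ_stalkSpecializes,
      Scheme.Hom.germ_stalkMap_apply]
    refine Eq.trans ?_ (Scheme.Hom.germ_stalkMap_apply (pullback.fst g s) _ _ _ _).symm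
    refine congrArg (P.presheaf.germ ⊤ z.1 trivial) ?_
    rw [show (Scheme.ΓSpecIso (CommRingCat.of Oh)).inv (algebraMap R Oh r) =
      s.appTop ((Scheme.ΓSpecIso (CommRingCat.of R)).inv r) from
        (congr($(Scheme.ΓSpecIso_inv_naturality (CommRingCat.ofHom (algebraMap R Oh))).hom r))]
    exact congr($(congrArg Scheme.Hom.appTop (pullback.condition (f := g) (g := s))).hom
      ((Scheme.ΓSpecIso (CommRingCat.of R)).inv r)).symm
  refine ⟨F.image fun z => (⟨pullback.fst g s z.1, hy z⟩, n), fun a ha => ?_⟩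
  have hmem : algebraMap O Oh a ∈ maximalIdeal Oh ^ N := by
    refine hF ?_
    simp only [J, Submodule.mem_iInf]
    intro z hz
    rw [Ideal.mem_comap, hcomp z a]
    have h1 : a ∈ (maximalIdeal (Y'.presheaf.stalk (pullback.fst g s z.1)) ^ n).comap
        (stalkHom g _ (hy z)).hom := by
      have := (Submodule.mem_iInf _).1 ha (⟨pullback.fst g s z.1, hy z⟩, n)
      exact (Submodule.mem_iInf _).1 this (Finset.mem_image_of_mem _ hz)
    have h2 : (maximalIdeal (Y'.presheaf.stalk (pullback.fst g s z.1))).map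
        ((pullback.fst g s).stalkMap z.1).hom ≤ maximalIdeal (P.presheaf.stalk z.1) :=
      Ideal.map_le_iff_le_comap.2 fun b hb =>
        Ideal.mem_comap.2 (map_nonunit ((pullback.fst g s).stalkMap z.1).hom b hb)
    refine Ideal.pow_right_mono h2 n ?_
    rw [← Ideal.map_pow]
    exact Ideal.mem_map_of_mem _ h1
  rw [hmax, ← Ideal.map_pow] at hmem
  exact (Ideal.comap_map_eq_self_of_faithfullyFlat (B := Oh) (maximalIdeal O ^ N)).le hmem

end Groth.Agent.FlatProper5
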